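import Mathlib

/-! Transfer of a central involution of a Sylow 2-subgroup into a quotient of order two. -/

set_option autoImplicit false

open scoped Classical
open MulAction

namespace CfsgLib.TransferTwo

variable {G : Type*} [Group G] [Finite G]

theorem index_eq_two_of_coatom {P : Type*} [Group P] [Finite P] (hP : IsPGroup 2 P) {M : Subgroup P}
    (hM : IsCoatom M) : M.index = 2 := by
  obtain ⟨n, hn⟩ := IsPGroup.iff_card.mp (hP.to_subgroup M)
  obtain ⟨m, hm⟩ := IsPGroup.iff_card.mp hP
  have hlt : n < m := by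
    by_contra h
    apply hM.1
    apply Subgroup.eq_top_of_le_card
    rw [hm, hn]
    exact Nat.pow_le_pow_right (by norm_num) (not_lt.mp h)
  obtain ⟨K, hK, hMK⟩ := Sylow.exists_subgroup_card_pow_succ (p := 2) (by rw [hm]; exact pow_dvd_pow 2 hlt) hn
  have hKtop : K = ⊤ := by
    refine hM.2 K (lt_of_le_of_ne hMK ?_)
    rintro rfl
    rw [hn] at hK
    exact absurd (Nat.pow_right_injective (le_refl 2) hK) (by omega)
  rw [hKtop, Subgroup.card_top] at hK
  have := M.card_mul_index
  rw [hn, hK, pow_succ] at this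
  exact Nat.eq_of_mul_eq_mul_left (pow_pos (by norm_num) n) this

/-- If a central involution `z` of a Sylow 2-subgroup `S` is fixed by `N_G(S)` and avoids a subgroup
of index 2 of `S`, then `G` has a subgroup of index 2. -/
theorem exists_index_two (S : Sylow 2 G) {z : G} (hzS : z ∈ (S : Subgroup G)) (hz : z * z = 1)
    (hzc : ∀ s ∈ (S : Subgroup G), s * z = z * s)
    (hN : ∀ g ∈ Subgroup.normalizer ((S : Subgroup G) : Set G), g * z * g⁻¹ = z)
    (M : Subgroup (S : Subgroup G)) (hM : M.index = 2) (hzM : (⟨z, hzS⟩ : (S : Subgroup G)) ∉ M) :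
    ∃ H : Subgroup G, H.index = 2 := by
  classical
  haveI hMn : M.Normal := Subgroup.normal_of_index_eq_two hM
  let e : (↥(S : Subgroup G) ⧸ M) ≃* Multiplicative (ZMod 2) :=
    mulEquivOfPrimeCardEq (p := 2) hM (by simp)
  let φ : ↥(S : Subgroup G) →* Multiplicative (ZMod 2) := e.toMonoidHom.comp (QuotientGroup.mk' M)
  have hφz : φ ⟨z, hzS⟩ ≠ 1 := by
    intro h
    apply hzM
    rw [← QuotientGroup.eq_one_iff]
    exact e.injective (by rw [map_one]; exact h)
  set ε := φ ⟨z, hzS⟩ with hε
  have htwo : ∀ a : Multiplicative (ZMod 2), a ≠ 1 → a = ε := by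
    intro a ha
    revert ha hφz
    generalize ε = b
    revert a b
    decide
  have hzi : z⁻¹ = z := inv_eq_of_mul_eq_one_right hz
  letI : Fintype (G ⧸ (S : Subgroup G)) := Subgroup.fintypeQuotientOfFiniteIndex
  obtain ⟨T⟩ : Nonempty (Subgroup.LeftTransversal (S : Subgroup G)) := ⟨default⟩
  let t : G ⧸ (S : Subgroup G) → G := fun q => (T.2.leftQuotientEquiv q : G)
  have ht : ∀ q, (t q : G ⧸ (S : Subgroup G)) = q := fun q => T.2.quotientGroupMk_leftQuotientEquiv q
  have hmem : ∀ q, (t q)⁻¹ * (z * t (z • q)) ∈ (S : Subgroup G) := by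
    intro q
    rw [← QuotientGroup.eq, ht, ← smul_eq_mul z, ← MulAction.Quotient.smul_mk, ht, smul_smul, hz, one_smul]
  let f : G ⧸ (S : Subgroup G) → Multiplicative (ZMod 2) := fun q => φ ⟨_, hmem q⟩
  have hV : MonoidHom.transfer φ z = ∏ q, f q := by
    rw [MonoidHom.transfer_def φ T z]
    refine Finset.prod_congr rfl fun q _ => ?_
    show φ _ = φ _
    congr 1
    apply Subtype.ext
    show (t q)⁻¹ * ((z • T).2.leftQuotientEquiv q : G) = (t q)⁻¹ * (z * t (z • q))
    rw [Subgroup.smul_apply_eq_smul_apply_inv_smul, hzi]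
    rfl
  have hmove : ∏ q ∈ Finset.univ.filter (fun q : G ⧸ (S : Subgroup G) => ¬ z • q = q), f q = 1 := by
    refine Finset.prod_involution (fun q _ => z • q) (fun q _ => ?_) (fun q hq _ => ?_)
      (fun q hq => ?_) (fun q _ => ?_)
    · show φ _ * φ _ = 1
      rw [← map_mul]
      convert map_one φ
      apply Subtype.ext
      show (t q)⁻¹ * (z * t (z • q)) * ((t (z • q))⁻¹ * (z * t (z • z • q))) = 1
      rw [smul_smul, hz, one_smul]
      simp [mul_assoc, ← mul_assoc z z, hz]
    · exact (Finset.mem_filter.mp hq).2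
    · simp only [Finset.mem_filter, Finset.mem_univ, true_and] at hq ⊢
      rw [smul_smul, hz, one_smul]
      exact fun h => hq h.symm
    · rw [smul_smul, hz, one_smul]
  have hsplit : ∏ q, f q = ∏ q ∈ Finset.univ.filter (fun q : G ⧸ (S : Subgroup G) => z • q = q), f q := by
    rw [← Finset.prod_filter_mul_prod_filter_not Finset.univ (fun q => z • q = q), hmove, mul_one]
  -- the value at a fixed coset does not depend on the representative
  have hrep : ∀ (g : G) (hg : g⁻¹ * z * g ∈ (S : Subgroup G)), z • (g : G ⧸ (S : Subgroup G)) = g →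
      f (g : G ⧸ (S : Subgroup G)) = φ ⟨g⁻¹ * z * g, hg⟩ := by
    intro g hg hfix
    have hs : g⁻¹ * t (g : G ⧸ (S : Subgroup G)) ∈ (S : Subgroup G) := by
      rw [← QuotientGroup.eq]; exact (ht _).symm
    show φ _ = φ _
    have : (⟨_, hmem (g : G ⧸ (S : Subgroup G))⟩ : (S : Subgroup G)) =
        (⟨_, hs⟩ : (S : Subgroup G))⁻¹ * ⟨_, hg⟩ * ⟨_, hs⟩ := by
      apply Subtype.ext
      show (t _)⁻¹ * (z * t (z • (g : G ⧸ (S : Subgroup G)))) = (g⁻¹ * t _)⁻¹ * (g⁻¹ * z * g) * (g⁻¹ * t _)
      rw [hfix]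
      simp [mul_assoc]
    rw [this, map_mul, map_mul, map_inv, mul_comm, mul_inv_cancel_left]
  set A := Finset.univ.filter (fun q : G ⧸ (S : Subgroup G) => z • q = q ∧ f q = ε) with hA
  have hprodA : ∏ q ∈ Finset.univ.filter (fun q : G ⧸ (S : Subgroup G) => z • q = q), f q = ε ^ A.card := by
    rw [← Finset.prod_filter_mul_prod_filter_not _ (fun q => f q = ε), Finset.filter_filter]
    rw [Finset.prod_congr rfl (fun q hq => (Finset.mem_filter.mp hq).2.2), Finset.prod_const]
    rw [Finset.prod_eq_one (fun q hq => ?_), mul_one]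
    by_contra h
    exact (Finset.mem_filter.mp hq).2 (htwo _ h)
  -- the `S`-stable set `A` has odd cardinality
  have hpar : ∀ {B : SubMulAction ↥(S : Subgroup G) (G ⧸ (S : Subgroup G))},
      Nat.card B ≡ Nat.card (fixedPoints ↥(S : Subgroup G) B) [MOD 2] :=
    fun {B} => S.isPGroup'.card_modEq_card_fixedPoints B
  have hAfix : ∀ q ∈ fixedPoints ↥(S : Subgroup G) (G ⧸ (S : Subgroup G)), z • q = q ∧ f q = ε := by
    intro q hq
    induction q using QuotientGroup.induction_on with
    | H g =>
      have hgN : g ∈ Subgroup.normalizer ((S : Subgroup G) : Set G) :=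
        Sylow.mem_fixedPoints_mul_left_cosets_iff_mem_normalizer.mp hq
      have hfix : z • (g : G ⧸ (S : Subgroup G)) = g := by
        have := (Subgroup.inv_mem _ hgN)
        rw [MulAction.Quotient.smul_mk, smul_eq_mul, eq_comm, QuotientGroup.eq, ← mul_assoc]
        have h1 := (Subgroup.mem_normalizer_iff.mp this z).mp hzS
        rwa [inv_inv] at h1
      refine ⟨hfix, ?_⟩
      have hgz : g⁻¹ * z * g = z := by
        have := hN _ (Subgroup.inv_mem _ hgN); rwa [inv_inv] at this
      rw [hrep g (hgz.symm ▸ hzS) hfix]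
      congr 1
      exact Subtype.ext hgz
  let B : SubMulAction ↥(S : Subgroup G) (G ⧸ (S : Subgroup G)) :=
    { carrier := {q | z • q = q ∧ f q = ε}
      smul_mem' := by
        intro s q hq
        induction q using QuotientGroup.induction_on with
        | H g =>
          obtain ⟨hfix, hval⟩ := hq
          have hsz : (s : G) * z = z * s := hzc s s.2
          have hg : g⁻¹ * z * g ∈ (S : Subgroup G) := by
            rw [MulAction.Quotient.smul_mk, smul_eq_mul, eq_comm, QuotientGroup.eq, ← mul_assoc] at hfix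
            exact hfix
          have hfix' : z • (((s : G) * g : G) : G ⧸ (S : Subgroup G)) = (((s : G) * g : G) : G ⧸ (S : Subgroup G)) := by
            have := congrArg ((s : G) • ·) hfix
            simp only [smul_smul, hsz] at this
            rwa [← smul_eq_mul (s : G) g, ← MulAction.Quotient.smul_mk, smul_smul]
          refine ⟨hfix', ?_⟩
          have hsg : ((s : G) * g)⁻¹ * z * ((s : G) * g) = g⁻¹ * z * g := by
            have : (s : G)⁻¹ * z * s = z := by rw [mul_assoc, ← hsz, inv_mul_cancel_left]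
            calc ((s : G) * g)⁻¹ * z * ((s : G) * g) = g⁻¹ * ((s : G)⁻¹ * z * s) * g := by simp [mul_assoc]
              _ = g⁻¹ * z * g := by rw [this]
          show f (((s : G) * g : G) : G ⧸ (S : Subgroup G)) = ε
          rw [hrep _ (hsg.symm ▸ hg) hfix', ← hval, hrep g hg hfix]
          congr 1
          exact Subtype.ext hsg }
  have hBcard : Nat.card B = A.card := by
    rw [← Nat.card_eq_finsetCard]
    refine Nat.card_congr (Equiv.subtypeEquivRight fun q => ?_)
    show (z • q = q ∧ f q = ε) ↔ q ∈ A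
    simp [hA]
  have hfixcard : Nat.card (fixedPoints ↥(S : Subgroup G) B) =
      Nat.card (fixedPoints ↥(S : Subgroup G) (G ⧸ (S : Subgroup G))) := by
    refine Nat.card_congr
      { toFun := fun b => ⟨(b.1 : G ⧸ (S : Subgroup G)), fun s => congrArg Subtype.val (b.2 s)⟩
        invFun := fun q => ⟨⟨q.1, hAfix q.1 q.2⟩, fun s => Subtype.ext (q.2 s)⟩
        left_inv := fun b => rfl
        right_inv := fun q => rfl }
  have hodd : Odd A.card := by
    rw [Nat.odd_iff]
    have h1 : Nat.card B % 2 = Nat.card (fixedPoints ↥(S : Subgroup G) B) % 2 := hpar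
    have h2 : Nat.card (G ⧸ (S : Subgroup G)) % 2 =
        Nat.card (fixedPoints ↥(S : Subgroup G) (G ⧸ (S : Subgroup G))) % 2 :=
      S.isPGroup'.card_modEq_card_fixedPoints _
    have h3 : ¬ 2 ∣ Nat.card (G ⧸ (S : Subgroup G)) := S.not_dvd_index
    omega
  have hVz : MonoidHom.transfer φ z = ε := by
    obtain ⟨k, hk⟩ := hodd
    rw [hV, hsplit, hprodA, hk, pow_succ, pow_mul]
    have : ε ^ 2 = 1 := by generalize ε = b; revert b; decide
    rw [this, one_pow, one_mul]
  refine ⟨(MonoidHom.transfer φ).ker, ?_⟩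
  rw [Subgroup.index_ker]
  have : (MonoidHom.transfer φ).range = ⊤ := by
    rw [eq_top_iff]
    intro a _
    by_cases ha : a = 1
    · exact ha ▸ one_mem _
    · exact ⟨z, hVz.trans (htwo a ha).symm⟩
  rw [this]
  simp

end CfsgLib.TransferTwo
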